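import Mathlib
import Groth.Agent.Lib.Helper6.ProjDeg.PDk

set_option autoImplicit false
set_option linter.unusedSectionVars false
set_option linter.unusedVariables false
set_option linter.unusedSimpArgs false
set_option linter.style.haveILetI false
set_option maxHeartbeats 400000

/-!
# Hilbert functions of hypersurfaces, and auxiliary facts on Hilbert polynomials and
localized lengths
-/

open MvPolynomial Filter Topology

universe u v

noncomputable section

namespace Groth.Agent.Lib.Helper6.CubLine

open Groth.Agent.Lib.Helper6.ProjDeg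

section Count

variable (k : Type u) [Field k] (r : ℕ)

/-- the number of forms of degree `t` in `r` variables -/
theorem finrank_homog (t : ℕ) :
    Module.finrank k (homogeneousSubmodule (Fin r) k t) = Nat.multichoose r t := by
  classical
  apply le_antisymm _ (multichoose_le_finrank k r t)
  set D : Finset (Fin r →₀ ℕ) := (Finset.univ : Finset (Fin r)).finsuppAntidiag t with hD
  have hcard : D.card = Nat.multichoose r t := by
    rw [hD, Finset.card_finsuppAntidiag_nat_eq_multichoose, Finset.card_univ, Fintype.card_fin]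
  have hspan : homogeneousSubmodule (Fin r) k t =
      Submodule.span k ((D.image fun d => (monomial d (1 : k) : MvPolynomial (Fin r) k) :
        Finset (MvPolynomial (Fin r) k)) : Set (MvPolynomial (Fin r) k)) := by
    rw [homogeneousSubmodule_eq_finsupp_supported, AddMonoidAlgebra.supported_eq_span_single]
    congr 1
    ext x
    rw [Finset.coe_image]
    constructor
    · rintro ⟨d, hd, rfl⟩
      refine ⟨d, ?_, rfl⟩
      rw [hD, Finset.mem_coe, Finset.mem_finsuppAntidiag]
      refine ⟨?_, Finset.subset_univ _⟩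
      have hd' : d.degree = t := hd
      rw [← hd', Finsupp.degree_eq_sum]
    · rintro ⟨d, hd, rfl⟩
      refine ⟨d, ?_, rfl⟩
      rw [hD, Finset.mem_coe, Finset.mem_finsuppAntidiag] at hd
      show d.degree = t
      rw [Finsupp.degree_eq_sum]
      exact hd.1
  rw [hspan]
  calc Module.finrank k ↥(Submodule.span k ((D.image fun d =>
          (monomial d (1 : k) : MvPolynomial (Fin r) k) : Finset (MvPolynomial (Fin r) k)) :
          Set (MvPolynomial (Fin r) k)))
      ≤ (D.image fun d => (monomial d (1 : k) : MvPolynomial (Fin r) k)).card :=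
        finrank_span_finset_le_card _
    _ ≤ D.card := Finset.card_image_le
    _ = Nat.multichoose r t := hcard

variable [GradedAlgebra (homogeneousSubmodule (Fin r) k)]

theorem hq_bot (m : ℕ) :
    hq (⊥ : Ideal (MvPolynomial (Fin r) k)) m = (Nat.multichoose r m : ℚ) := by
  unfold hq
  have : piece (⊥ : Ideal (MvPolynomial (Fin r) k)) m = ⊥ := by
    unfold piece
    rw [Submodule.restrictScalars_bot, bot_inf_eq]
  rw [this, finrank_bot, finrank_homog]
  simp

/-- the Hilbert function of a hypersurface of degree `d` -/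
theorem hq_span_singleton {F : MvPolynomial (Fin r) k} {d : ℕ}
    (hF : F ∈ homogeneousSubmodule (Fin r) k d) (hF0 : F ≠ 0) (m : ℕ) (hdm : d ≤ m) :
    hq (Ideal.span {F}) m = (Nat.multichoose r m : ℚ) - Nat.multichoose r (m - d) := by
  have hb : (⊥ : Ideal (MvPolynomial (Fin r) k)).IsHomogeneous (homogeneousSubmodule (Fin r) k) :=
    Ideal.IsHomogeneous.bot _
  have h1 := hq_add hb hF hF0 m
  haveI : (⊥ : Ideal (MvPolynomial (Fin r) k)).IsPrime := Ideal.isPrime_bot
  have hFb : F ∉ (⊥ : Ideal (MvPolynomial (Fin r) k)) := by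
    rw [Ideal.mem_bot]
    exact hF0
  rw [colon_of_prime hFb, bot_sup_eq] at h1
  unfold hqs at h1
  rw [if_pos hdm, hq_bot, hq_bot] at h1
  linarith

end Count

section Binom

theorem cast_choose_two (m : ℕ) : ((m + 2).choose 2 : ℚ) = ((m : ℚ) + 2) * (m + 1) / 2 := by
  induction m with
  | zero => norm_num
  | succ m ih =>
    rw [show m + 1 + 2 = (m + 2) + 1 from rfl, Nat.choose_succ_succ' (m + 2) 1, Nat.cast_add, ih,
      Nat.choose_one_right]
    push_cast
    ring

theorem cast_choose_three (m : ℕ) :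
    ((m + 3).choose 3 : ℚ) = ((m : ℚ) + 3) * (m + 2) * (m + 1) / 6 := by
  induction m with
  | zero => norm_num [Nat.choose]
  | succ m ih =>
    rw [show m + 1 + 3 = (m + 3) + 1 from rfl, Nat.choose_succ_succ' (m + 3) 2, Nat.cast_add, ih,
      show m + 3 = (m + 1) + 2 from rfl, cast_choose_two]
    push_cast
    ring

theorem cast_multichoose_four (m : ℕ) :
    (Nat.multichoose 4 m : ℚ) = ((m : ℚ) + 3) * (m + 2) * (m + 1) / 6 := by
  rw [Nat.multichoose_eq, show 4 + m - 1 = m + 3 by omega, Nat.choose_symm_add, cast_choose_three]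

end Binom

section Cubic

open scoped Polynomial

variable {k : Type u} [Field k]

/-- the Hilbert polynomial of a cubic surface -/
def Pcub : ℚ[X] :=
  Polynomial.C (3 / 2 : ℚ) * Polynomial.X ^ 2 + Polynomial.C (3 / 2 : ℚ) * Polynomial.X + Polynomial.C 1

theorem natDegree_Pcub : Pcub.natDegree = 2 :=
  Polynomial.natDegree_quadratic (by norm_num)

theorem leadingCoeff_Pcub : Pcub.leadingCoeff = 3 / 2 :=
  Polynomial.leadingCoeff_quadratic (by norm_num)

theorem isHilb_cubic (F : MvPolynomial (Fin 4) k) (hF : F.IsHomogeneous 3) (hF0 : F ≠ 0) :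
    IsHilb (Ideal.span {F}) Pcub := by
  refine ⟨3, fun m hm => ?_⟩
  have h1 := hq_span_singleton k 4 (F := F) (d := 3) hF hF0 m hm
  rw [h1]
  obtain ⟨t, rfl⟩ := Nat.exists_eq_add_of_le hm
  rw [show 3 + t - 3 = t by omega, cast_multichoose_four, cast_multichoose_four]
  unfold Pcub
  simp only [Polynomial.eval_add, Polynomial.eval_mul, Polynomial.eval_C, Polynomial.eval_pow,
    Polynomial.eval_X]
  push_cast
  ring

end Cubic

section Hilb

open scoped Polynomial

variable {k : Type u} [Field k] {σ : Type v} [Finite σ]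
  [GradedAlgebra (homogeneousSubmodule σ k)]

theorem IsHilb.unique {I : Ideal (MvPolynomial σ k)} {P Q : ℚ[X]} (hP : IsHilb I P)
    (hQ : IsHilb I Q) : P = Q := by
  obtain ⟨m₁, h₁⟩ := hP
  obtain ⟨m₂, h₂⟩ := hQ
  apply Polynomial.eq_of_infinite_eval_eq
  refine Set.infinite_of_injective_forall_mem (f := fun n : ℕ => ((n + m₁ + m₂ : ℕ) : ℚ)) ?_ ?_
  · intro x y hxy
    have hxy' : ((x + m₁ + m₂ : ℕ) : ℚ) = ((y + m₁ + m₂ : ℕ) : ℚ) := hxy
    have : x + m₁ + m₂ = y + m₁ + m₂ := by exact_mod_cast hxy'
    omega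
  · intro n
    show Polynomial.eval _ P = Polynomial.eval _ Q
    rw [h₁ _ (by omega), h₂ _ (by omega)]

theorem IsHilb.leadingCoeff_nonneg {I : Ideal (MvPolynomial σ k)} {Q : ℚ[X]} (h : IsHilb I Q) :
    0 ≤ Q.leadingCoeff := by
  have h1 := asym_poly Q Q.natDegree le_rfl
  unfold Asym at h1
  refine ge_of_tendsto h1 ?_
  filter_upwards [h.eventually] with m hm
  rw [← hm]
  exact div_nonneg (hq_nonneg _ _) (by positivity)

theorem lam_ne_zero (p I : Ideal (MvPolynomial σ k)) [hp : p.IsPrime] (h : I ≤ p) :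
    lam p I ≠ 0 := by
  unfold lam
  rw [Ne, Module.length_eq_zero_iff, LocalizedModule.subsingleton_iff]
  intro hcon
  obtain ⟨r, hr, hr0⟩ := hcon (Ideal.Quotient.mk I 1)
  apply hr
  apply h
  rw [← Ideal.Quotient.eq_zero_iff_mem]
  have : r • (Ideal.Quotient.mk I 1) = Ideal.Quotient.mk I r := by
    rw [map_one]
    show r • (Ideal.Quotient.mk I 1) = Ideal.Quotient.mk I r
    rw [← Ideal.Quotient.mk_eq_mk, ← Submodule.Quotient.mk_smul, smul_eq_mul, mul_one]
    rfl
  rw [← this]
  exact hr0

theorem lam_ne_top (I : Ideal (MvPolynomial σ k))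
    (hI : I.IsHomogeneous (homogeneousSubmodule σ k)) (p : Ideal (MvPolynomial σ k))
    [hp : p.IsPrime] (hmin : p ∈ I.minimalPrimes) : lam p I ≠ ⊤ := by
  classical
  obtain ⟨L, hL1, hL2, hL3⟩ := exists_isFilt I hI
  have hlam : ∀ x ∈ L, lam p x.1 = if x.1 = p then 1 else 0 := by
    intro x hx
    obtain ⟨hxP, hxH, hxI⟩ := hL1 x hx
    split_ifs with h
    · rw [h]
      exact Groth.Agent.Helper8.Mult.length_localizedModule_quotient_self p
    · have hnle : ¬ x.1 ≤ p := fun hle => h (le_antisymm hle (hmin.2 ⟨hxP, hxI⟩ hle))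
      haveI := Groth.Agent.Helper8.Mult.subsingleton_localizedModule_quotient x.1 p hnle
      exact Module.length_eq_zero
  rw [hL3 p, List.map_congr_left hlam, list_sum_ite_enat]
  exact ENat.natCast_ne_top _

end Hilb

end Groth.Agent.Lib.Helper6.CubLine
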