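import Mathlib
import Groth.Agent.Lib.Helper6.CubLine.CLa

set_option autoImplicit false
set_option linter.unusedSectionVars false
set_option linter.unusedVariables false
set_option linter.unusedSimpArgs false
set_option linter.style.haveILetI false
set_option maxHeartbeats 400000

/-!
# Vanishing ideals of linear subspaces: primality, homogeneity, Hilbert function
-/

open MvPolynomial

universe u v

noncomputable section

namespace Groth.Agent.Lib.Helper6.CubLine

open Groth.Agent.Lib.Helper6.ProjDeg

variable {K : Type u} [Field K] {σ : Type v} [Fintype σ] [DecidableEq σ]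

/-- the vanishing ideal of a set of points of affine space -/
def vanI (U : Set (σ → K)) : Ideal (MvPolynomial σ K) where
  carrier := {f | ∀ x ∈ U, eval x f = 0}
  add_mem' := fun {f g} hf hg x hx => by rw [map_add, hf x hx, hg x hx, add_zero]
  zero_mem' := fun x _ => map_zero _
  smul_mem' := fun c f hf x hx => by rw [smul_eq_mul, map_mul, hf x hx, mul_zero]

theorem mem_vanI {U : Set (σ → K)} {f : MvPolynomial σ K} :
    f ∈ vanI U ↔ ∀ x ∈ U, eval x f = 0 := Iff.rfl

/-- the linear form attached to a linear functional -/
def linForm (ℓ : (σ → K) →ₗ[K] K) : MvPolynomial σ K :=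
  ∑ i, C (ℓ (fun j => if i = j then 1 else 0)) * X i

theorem eval_linForm (ℓ : (σ → K) →ₗ[K] K) (x : σ → K) : eval x (linForm ℓ) = ℓ x := by
  unfold linForm
  rw [map_sum, LinearMap.pi_apply_eq_sum_univ ℓ x]
  apply Finset.sum_congr rfl
  intro i _
  rw [map_mul, eval_C, eval_X, smul_eq_mul, mul_comm]

theorem le_of_vanI_le {U U' : Submodule K (σ → K)}
    (h : vanI (U : Set (σ → K)) ≤ vanI (U' : Set (σ → K))) : U' ≤ U := by
  intro x hx
  by_contra hxU
  obtain ⟨ℓ, hℓx, hℓU⟩ := Submodule.exists_le_ker_of_notMem hxU
  have h1 : linForm ℓ ∈ vanI (U : Set (σ → K)) := by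
    intro y hy
    rw [eval_linForm]
    exact hℓU hy
  have h2 := h h1 x hx
  rw [eval_linForm] at h2
  exact hℓx h2

theorem vanI_injective {U U' : Submodule K (σ → K)}
    (h : vanI (U : Set (σ → K)) = vanI (U' : Set (σ → K))) : U = U' :=
  le_antisymm (le_of_vanI_le h.ge) (le_of_vanI_le h.le)

section Param

variable {d : ℕ} (U : Submodule K (σ → K)) (b : Module.Basis (Fin d) K U)

/-- the images of the variables under the parametrization of `U` -/
def lineVar (i : σ) : MvPolynomial (Fin d) K := ∑ j, C ((b j : σ → K) i) * X j

/-- restriction of polynomial functions to `U`, in the coordinates of the basis `b` -/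
def lineMap : MvPolynomial σ K →ₐ[K] MvPolynomial (Fin d) K := aeval (lineVar U b)

/-- the parametrization of `U` -/
def param (z : Fin d → K) : σ → K := ∑ j, z j • (b j : σ → K)

theorem param_mem (z : Fin d → K) : param U b z ∈ U :=
  Submodule.sum_mem _ fun j _ => Submodule.smul_mem _ _ (b j).2

theorem exists_param {x : σ → K} (hx : x ∈ U) : ∃ z, x = param U b z := by
  refine ⟨b.equivFun ⟨x, hx⟩, ?_⟩
  have h := b.sum_equivFun ⟨x, hx⟩
  have h2 := congrArg (Subtype.val) h
  rw [Submodule.coe_sum] at h2
  simp only [Submodule.coe_smul] at h2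
  exact h2.symm

theorem eval_lineVar (z : Fin d → K) (i : σ) : eval z (lineVar U b i) = param U b z i := by
  unfold lineVar param
  rw [map_sum, Finset.sum_apply]
  apply Finset.sum_congr rfl
  intro j _
  rw [map_mul, eval_C, eval_X, Pi.smul_apply, smul_eq_mul, mul_comm]

theorem eval_lineMap (z : Fin d → K) (f : MvPolynomial σ K) :
    eval z (lineMap U b f) = eval (param U b z) f := by
  induction f using MvPolynomial.induction_on with
  | C c => simp [lineMap]
  | add p q hp hq => rw [map_add, map_add, map_add, hp, hq]
  | mul_X p i hp =>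
    rw [map_mul, map_mul, map_mul, hp]
    congr 1
    unfold lineMap
    rw [aeval_X, eval_X, eval_lineVar]

variable [Infinite K]

theorem lineMap_eq_zero_iff (f : MvPolynomial σ K) :
    lineMap U b f = 0 ↔ f ∈ vanI (U : Set (σ → K)) := by
  constructor
  · intro h x hx
    obtain ⟨z, rfl⟩ := exists_param U b hx
    rw [← eval_lineMap, h, map_zero]
  · intro h
    apply MvPolynomial.funext
    intro z
    rw [eval_lineMap, map_zero]
    exact h _ (param_mem U b z)

include b in
theorem vanI_isPrime : (vanI (U : Set (σ → K))).IsPrime := by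
  have : vanI (U : Set (σ → K)) = RingHom.ker (lineMap U b).toRingHom := by
    ext f
    rw [RingHom.mem_ker, ← lineMap_eq_zero_iff U b]
    rfl
  rw [this]
  exact RingHom.ker_isPrime _

theorem lineVar_isHomogeneous (i : σ) : (lineVar U b i).IsHomogeneous 1 :=
  IsHomogeneous.sum _ _ _ fun j _ => (isHomogeneous_X K j).C_mul _

theorem lineMap_isHomogeneous {f : MvPolynomial σ K} {m : ℕ} (hf : f.IsHomogeneous m) :
    (lineMap U b f).IsHomogeneous m := by
  have := hf.aeval (lineVar U b) (lineVar_isHomogeneous U b)
  rwa [one_mul] at this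

theorem hc_lineMap (m : ℕ) (f : MvPolynomial σ K) :
    homogeneousComponent m (lineMap U b f) = lineMap U b (homogeneousComponent m f) := by
  conv_lhs => rw [← sum_homogeneousComponent (φ := f)]
  rw [map_sum, map_sum]
  have hterm : ∀ i ∈ Finset.range (f.totalDegree + 1),
      homogeneousComponent m (lineMap U b (homogeneousComponent i f)) =
        if m = i then lineMap U b (homogeneousComponent i f) else 0 := by
    intro i _
    exact homogeneousComponent_of_mem
      (lineMap_isHomogeneous U b (homogeneousComponent_isHomogeneous i f))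
  rw [Finset.sum_congr rfl hterm, Finset.sum_ite_eq]
  split_ifs with h
  · rfl
  · rw [Finset.mem_range, not_lt] at h
    have h0 : homogeneousComponent m f = 0 := homogeneousComponent_eq_zero _ _ (by omega)
    rw [h0, map_zero]

theorem decompose_eq_hc [GradedAlgebra (homogeneousSubmodule σ K)] (f : MvPolynomial σ K) (i : ℕ) :
    (DirectSum.decompose (homogeneousSubmodule σ K) f i : MvPolynomial σ K) =
      homogeneousComponent i f := by
  conv_lhs => rw [← sum_homogeneousComponent (φ := f)]
  rw [DirectSum.decompose_sum, DFinsupp.finsetSum_apply, AddSubmonoidClass.coe_finsetSum]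
  have hterm : ∀ j ∈ Finset.range (f.totalDegree + 1),
      ((DirectSum.decompose (homogeneousSubmodule σ K) (homogeneousComponent j f)) i :
        MvPolynomial σ K) = if i = j then homogeneousComponent j f else 0 := by
    intro j _
    have hmem : homogeneousComponent j f ∈ homogeneousSubmodule σ K j :=
      homogeneousComponent_isHomogeneous j f
    split_ifs with h
    · subst h
      exact DirectSum.decompose_of_mem_same _ hmem
    · exact DirectSum.decompose_of_mem_ne _ hmem (fun h' => h h'.symm)
  rw [Finset.sum_congr rfl hterm, Finset.sum_ite_eq]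
  split_ifs with h
  · rfl
  · rw [Finset.mem_range, not_lt] at h
    have h0 : homogeneousComponent i f = 0 := homogeneousComponent_eq_zero _ _ (by omega)
    rw [h0]

include b in
theorem vanI_isHomogeneous [GradedAlgebra (homogeneousSubmodule σ K)] :
    (vanI (U : Set (σ → K))).IsHomogeneous (homogeneousSubmodule σ K) := by
  intro i f hf
  rw [decompose_eq_hc, ← lineMap_eq_zero_iff U b, ← hc_lineMap,
    (lineMap_eq_zero_iff U b f).mpr hf, map_zero]

theorem lineMap_surjective : Function.Surjective (lineMap U b) := by
  let P : (Fin d → K) →ₗ[K] (σ → K) :=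
    U.subtype ∘ₗ b.equivFun.symm.toLinearMap
  have hP : ∀ z, P z = param U b z := by
    intro z
    show ((b.equivFun.symm z : U) : σ → K) = param U b z
    rw [Module.Basis.equivFun_symm_apply, Submodule.coe_sum]
    simp only [Submodule.coe_smul]
    rfl
  have hker : LinearMap.ker P = ⊥ := by
    rw [LinearMap.ker_eq_bot]
    exact (Submodule.injective_subtype U).comp b.equivFun.symm.injective
  obtain ⟨g, hg⟩ := LinearMap.exists_leftInverse_of_injective P hker
  have hX : ∀ j : Fin d, (X j : MvPolynomial (Fin d) K) ∈ (lineMap U b).range := by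
    intro j
    refine ⟨linForm ((LinearMap.proj j).comp g), ?_⟩
    apply MvPolynomial.funext
    intro z
    have h1 : eval z (lineMap U b (linForm ((LinearMap.proj j).comp g))) =
        (LinearMap.proj j).comp g (param U b z) := by
      rw [eval_lineMap, eval_linForm]
    have h2 : g (P z) = z := by
      have := LinearMap.congr_fun hg z
      simpa using this
    show eval z (lineMap U b (linForm ((LinearMap.proj j).comp g))) = eval z (X j)
    rw [h1, eval_X, ← hP, LinearMap.comp_apply, h2]
    rfl
  have htop : (lineMap U b).range = ⊤ := by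
    rw [eq_top_iff, ← MvPolynomial.adjoin_range_X]
    apply Algebra.adjoin_le
    rintro _ ⟨j, rfl⟩
    exact hX j
  intro y
  have : y ∈ (lineMap U b).range := by
    rw [htop]
    exact Algebra.mem_top
  exact this

include b in
/-- the Hilbert function of a linear subspace of dimension `d` -/
theorem hq_vanI [GradedAlgebra (homogeneousSubmodule σ K)] (m : ℕ) :
    hq (vanI (U : Set (σ → K))) m = (Nat.multichoose d m : ℚ) := by
  let Lm : homogeneousSubmodule σ K m →ₗ[K] homogeneousSubmodule (Fin d) K m :=
    (lineMap U b).toLinearMap.restrict (fun f hf => lineMap_isHomogeneous U b hf)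
  have hsurj : Function.Surjective Lm := by
    rintro ⟨g, hg⟩
    obtain ⟨f, rfl⟩ := lineMap_surjective U b g
    refine ⟨⟨homogeneousComponent m f, homogeneousComponent_isHomogeneous m f⟩, ?_⟩
    apply Subtype.ext
    show lineMap U b (homogeneousComponent m f) = lineMap U b f
    rw [← hc_lineMap, homogeneousComponent_eq_self hg]
  have hker : LinearMap.ker Lm =
      (piece (vanI (U : Set (σ → K))) m).comap (homogeneousSubmodule σ K m).subtype := by
    ext x
    rw [LinearMap.mem_ker, Submodule.mem_comap, mem_piece, ← lineMap_eq_zero_iff U b]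
    constructor
    · intro h
      refine ⟨?_, x.2⟩
      have := congrArg Subtype.val h
      exact this
    · intro h
      apply Subtype.ext
      exact h.1
  have h1 := LinearMap.finrank_range_add_finrank_ker Lm
  rw [LinearMap.range_eq_top.mpr hsurj, finrank_top, hker,
    (Submodule.comapSubtypeEquivOfLe (piece_le (vanI (U : Set (σ → K))) m)).finrank_eq,
    finrank_homog] at h1
  unfold hq
  rw [← h1]
  push_cast
  ring

end Param

end Groth.Agent.Lib.Helper6.CubLine
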