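import Mathlib
import Groth.Agent.Lib.Helper6.CubLine.CLb

set_option autoImplicit false
set_option linter.unusedSectionVars false
set_option linter.unusedVariables false
set_option linter.unusedSimpArgs false
set_option linter.style.haveILetI false
set_option maxHeartbeats 400000

/-!
# The polar of a hypersurface vanishes on the lines through the pole
-/

open MvPolynomial

universe u v

noncomputable section

namespace Groth.Agent.Lib.Helper6.CubLine

open Groth.Agent.Lib.Helper6.ProjDeg

variable {K : Type u} [Field K] {σ : Type v} [Fintype σ] [DecidableEq σ]

/-- the chain rule for the restriction of a polynomial to a parametrized curve -/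
theorem derivative_aeval (φ : σ → Polynomial K) (f : MvPolynomial σ K) :
    Polynomial.derivative (aeval φ f) =
      ∑ i, aeval φ (pderiv i f) * Polynomial.derivative (φ i) := by
  induction f using MvPolynomial.induction_on with
  | C c =>
    simp only [pderiv_C, map_zero, zero_mul, Finset.sum_const_zero]
    rw [show (aeval φ (C c) : Polynomial K) = Polynomial.C c by simp [Polynomial.algebraMap_apply]]
    exact Polynomial.derivative_C
  | add p q hp hq =>
    simp only [map_add, add_mul, Finset.sum_add_distrib]
    rw [hp, hq]
  | mul_X p j hp =>
    rw [map_mul, aeval_X, Polynomial.derivative_mul, hp]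
    have hterm : ∀ i, aeval φ (pderiv i (p * X j)) * Polynomial.derivative (φ i) =
        aeval φ (pderiv i p) * Polynomial.derivative (φ i) * φ j +
          aeval φ p * (if i = j then Polynomial.derivative (φ i) else 0) := by
      intro i
      rw [pderiv_mul, map_add, map_mul, map_mul, aeval_X, pderiv_X]
      by_cases h : i = j
      · subst h
        rw [Pi.single_eq_same, map_one, if_pos rfl]
        ring
      · rw [Pi.single_eq_of_ne (fun h' => h h'.symm), map_zero, if_neg h]
        ring
    rw [Finset.sum_congr rfl fun i _ => hterm i, Finset.sum_add_distrib, ← Finset.sum_mul,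
      ← Finset.mul_sum, Finset.sum_ite_eq' Finset.univ j]
    rw [if_pos (Finset.mem_univ j)]

theorem eval_aeval_poly (φ : σ → Polynomial K) (f : MvPolynomial σ K) (s : K) :
    Polynomial.eval s (aeval φ f) = eval (fun i => Polynomial.eval s (φ i)) f := by
  induction f using MvPolynomial.induction_on with
  | C c => simp [Polynomial.algebraMap_apply]
  | add p q hp hq => rw [map_add, map_add, Polynomial.eval_add, hp, hq]
  | mul_X p i hp => rw [map_mul, map_mul, Polynomial.eval_mul, hp, aeval_X, eval_X]

variable [Infinite K]

/-- the polar of `F` with respect to `a` vanishes on every linear subspace through `a` on which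
`F` vanishes -/
theorem polar_mem_vanI (F : MvPolynomial σ K) (a : σ → K) (U : Submodule K (σ → K)) (ha : a ∈ U)
    (hF : F ∈ vanI (U : Set (σ → K))) :
    (∑ i, a i • pderiv i F) ∈ vanI (U : Set (σ → K)) := by
  intro x hx
  set φ : σ → Polynomial K := fun i => Polynomial.C (x i) + Polynomial.C (a i) * Polynomial.X
    with hφ
  have hφs : ∀ s : K, (fun i => Polynomial.eval s (φ i)) = x + s • a := by
    intro s
    funext i
    show Polynomial.eval s (Polynomial.C (x i) + Polynomial.C (a i) * Polynomial.X) =
      x i + s * a i
    rw [Polynomial.eval_add, Polynomial.eval_C, Polynomial.eval_mul, Polynomial.eval_C,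
      Polynomial.eval_X, mul_comm]
  have hg : aeval φ F = 0 := by
    apply Polynomial.funext
    intro s
    rw [eval_aeval_poly, hφs, Polynomial.eval_zero]
    exact hF _ (U.add_mem hx (U.smul_mem s ha))
  have h1 := derivative_aeval φ F
  rw [hg, Polynomial.derivative_zero] at h1
  have h2 := congrArg (Polynomial.eval 0) h1
  rw [Polynomial.eval_zero, Polynomial.eval_finsetSum] at h2
  rw [map_sum]
  rw [h2]
  apply Finset.sum_congr rfl
  intro i _
  have hd : Polynomial.derivative (φ i) = Polynomial.C (a i) := by
    show Polynomial.derivative (Polynomial.C (x i) + Polynomial.C (a i) * Polynomial.X) =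
      Polynomial.C (a i)
    rw [Polynomial.derivative_add, Polynomial.derivative_C, zero_add, Polynomial.derivative_C_mul,
      Polynomial.derivative_X, mul_one]
  rw [Polynomial.eval_mul, eval_aeval_poly, hφs, zero_smul, add_zero, smul_eval, hd,
    Polynomial.eval_C, mul_comm]

end Groth.Agent.Lib.Helper6.CubLine
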