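import Mathlib
import Groth.Agent.Lib.Helper6.CubLine.CLc

set_option autoImplicit false
set_option linter.unusedSectionVars false
set_option linter.unusedVariables false
set_option linter.unusedSimpArgs false
set_option linter.style.haveILetI false
set_option maxHeartbeats 400000

/-!
# At most six lines of a non-conical irreducible cubic surface pass through a given point
-/

open MvPolynomial

universe u v

noncomputable section

namespace Groth.Agent.Lib.Helper6.CubLine

open Groth.Agent.Lib.Helper6.ProjDeg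

section Min

open scoped Polynomial

variable {K : Type u} [Field K] {n : ℕ}

theorem exists_height_eq (q : Ideal (MvPolynomial (Fin (n + 1)) K)) [hq : q.IsPrime]
    (hqH : q.IsHomogeneous (CohB1.polyGrading n K)) (Q : ℚ[X]) (hQ : IsHilb q Q) (hQ0 : Q ≠ 0) :
    ∃ h : ℕ, q.height = h ∧ h + (Q.natDegree + 1) = n + 1 := by
  obtain ⟨h, hh⟩ := ENat.ne_top_iff_exists.mp (Ideal.height_ne_top (I := q) hq.ne_top)
  have h1 := natDegree_add_height q hqH Q hQ hQ0
  rw [← hh] at h1
  refine ⟨h, hh.symm, ?_⟩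
  exact_mod_cast h1

/-- a homogeneous prime of the right dimension containing a hypersurface section is one of its
components -/
theorem mem_minimalPrimes_of_natDegree (I : Ideal (MvPolynomial (Fin (n + 1)) K)) [hIp : I.IsPrime]
    (hIh : I.IsHomogeneous (CohB1.polyGrading n K)) (P : ℚ[X]) (hP : IsHilb I P)
    (hdim : 2 ≤ P.natDegree) (f : MvPolynomial (Fin (n + 1)) K) (d : ℕ) (hf : f.IsHomogeneous d)
    (hfI : f ∉ I)
    (p : Ideal (MvPolynomial (Fin (n + 1)) K)) [hp : p.IsPrime]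
    (hpH : p.IsHomogeneous (CohB1.polyGrading n K)) (Qp : ℚ[X]) (hQp : IsHilb p Qp)
    (hQp0 : Qp ≠ 0) (hdeg : Qp.natDegree + 1 = P.natDegree) (hle : I ⊔ Ideal.span {f} ≤ p) :
    p ∈ (I ⊔ Ideal.span {f}).minimalPrimes := by
  have h𝔠h : (I ⊔ Ideal.span {f}).IsHomogeneous (CohB1.polyGrading n K) := by
    refine hIh.sup (Ideal.homogeneous_span _ _ ?_)
    rintro x hx
    rw [Set.mem_singleton_iff] at hx
    subst hx
    exact ⟨d, hf⟩
  obtain ⟨q, hq, hqle⟩ := Ideal.exists_minimalPrimes_le hle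
  haveI := hq.1.1
  have hqH := isHomogeneous_of_mem_minimalPrimes h𝔠h hq
  obtain ⟨Qq, hQq⟩ := exists_isHilb q hqH
  have hnd := natDegree_of_minimal I hIh P hP (by omega) f hfI q hq hqH Qq hQq
  have hQq0 : Qq ≠ 0 := by
    rintro rfl
    simp at hnd
    omega
  obtain ⟨h1, hh1, e1⟩ := exists_height_eq q hqH Qq hQq hQq0
  obtain ⟨h2, hh2, e2⟩ := exists_height_eq p hpH Qp hQp hQp0
  have h12 : h1 = h2 := by omega
  by_cases hne : q = p
  · rw [← hne]
    exact hq
  · exfalso
    have hlt : q < p := lt_of_le_of_ne hqle hne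
    have := Ideal.height_strict_mono_of_isPrime hlt
    rw [hh1, hh2, h12] at this
    exact lt_irrefl _ this

end Min

section Main

open scoped Polynomial

/-- **At most six lines through a point of a cubic surface.** -/
theorem lines_le_six (K : Type u) [Field K] [IsAlgClosed K]
    (F : MvPolynomial (Fin 4) K) (hF : F.IsHomogeneous 3) (hirr : Irreducible F)
    (hcone : ¬ ∃ v : Fin 4 → K, v ≠ 0 ∧ ∑ i : Fin 4, v i • MvPolynomial.pderiv i F = 0)
    (a : Fin 4 → K) (ha : a ≠ 0) :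
    {U : Submodule K (Fin 4 → K) | a ∈ U ∧ Module.finrank K ↥U = 2 ∧
      ∀ u ∈ U, MvPolynomial.eval u F = 0}.encard ≤ 6 := by
  classical
  haveI : Infinite K := inferInstance
  set Pol : MvPolynomial (Fin (3 + 1)) K := ∑ i : Fin 4, a i • pderiv i F with hPol
  have hPol0 : Pol ≠ 0 := fun h => hcone ⟨a, ha, h⟩
  have hPolH : Pol.IsHomogeneous 2 := by
    rw [hPol]
    apply IsHomogeneous.sum
    intro i _
    have h1 : (pderiv i F).IsHomogeneous 2 := hF.pderiv
    exact (homogeneousSubmodule (Fin 4) K 2).smul_mem (a i) h1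
  have hF0 : F ≠ 0 := hirr.ne_zero
  set I : Ideal (MvPolynomial (Fin (3 + 1)) K) := Ideal.span {F} with hI
  haveI hIp : I.IsPrime := (Ideal.span_singleton_prime hF0).mpr hirr.prime
  have hIh : I.IsHomogeneous (CohB1.polyGrading 3 K) := by
    refine Ideal.homogeneous_span _ _ ?_
    rintro x hx
    rw [Set.mem_singleton_iff] at hx
    subst hx
    exact ⟨3, hF⟩
  have hPolI : Pol ∉ I := by
    intro h
    rw [hI, Ideal.mem_span_singleton] at h
    obtain ⟨g, hg⟩ := h
    have hg0 : g ≠ 0 := by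
      rintro rfl
      rw [mul_zero] at hg
      exact hPol0 hg
    have h1 := hPolH.totalDegree hPol0
    have h2 := hF.totalDegree hF0
    have h3 := totalDegree_mul_of_isDomain hF0 hg0
    rw [← hg, h1, h2] at h3
    omega
  have hP : IsHilb I Pcub := isHilb_cubic F hF hF0
  set 𝔠 : Ideal (MvPolynomial (Fin (3 + 1)) K) := I ⊔ Ideal.span {Pol} with h𝔠
  have h𝔠h : 𝔠.IsHomogeneous (CohB1.polyGrading 3 K) := by
    refine hIh.sup (Ideal.homogeneous_span _ _ ?_)
    rintro x hx
    rw [Set.mem_singleton_iff] at hx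
    subst hx
    exact ⟨2, hPolH⟩
  have hfin : 𝔠.minimalPrimes.Finite := Ideal.finite_minimalPrimes_of_isNoetherianRing _ 𝔠
  haveI : Finite 𝔠.minimalPrimes := hfin.to_subtype
  obtain ⟨r, ⟨e⟩⟩ := Finite.exists_equiv_fin 𝔠.minimalPrimes
  let p : Fin r → Ideal (MvPolynomial (Fin (3 + 1)) K) := fun i => (e.symm i).1
  have hpmem : ∀ i, p i ∈ 𝔠.minimalPrimes := fun i => (e.symm i).2
  haveI hpp : ∀ i, (p i).IsPrime := fun i => (hpmem i).1.1
  have hpinj : Function.Injective p := fun i j h => e.symm.injective (Subtype.ext h)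
  have hpmin : ∀ q, q ∈ 𝔠.minimalPrimes ↔ ∃ i, q = p i := by
    intro q
    constructor
    · intro hq
      refine ⟨e ⟨q, hq⟩, ?_⟩
      show q = (e.symm (e ⟨q, hq⟩)).1
      rw [Equiv.symm_apply_apply]
    · rintro ⟨i, rfl⟩
      exact hpmem i
  have hpH : ∀ i, (p i).IsHomogeneous (CohB1.polyGrading 3 K) := fun i =>
    isHomogeneous_of_mem_minimalPrimes h𝔠h (hpmem i)
  choose Qp hQp using fun i => exists_isHilb (p i) (hpH i)
  have hbez := bezout (n := 3) I hIh Pol 2 (by norm_num) hPolH hPolI Pcub hP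
    (by rw [natDegree_Pcub]; norm_num) r p hpinj hpmin Qp hQp
  rw [natDegree_Pcub, leadingCoeff_Pcub] at hbez
  set L : Set (Submodule K (Fin 4 → K)) := {U : Submodule K (Fin 4 → K) |
    a ∈ U ∧ Module.finrank K ↥U = 2 ∧ ∀ u ∈ U, MvPolynomial.eval u F = 0} with hL
  have hline : ∀ U ∈ L, ∃ i, p i = vanI (U : Set (Fin 4 → K)) ∧
      Qp i = Polynomial.X + Polynomial.C 1 := by
    rintro U ⟨haU, hU2, hUF⟩
    let b := Module.finBasisOfFinrankEq K U hU2
    haveI : (vanI (U : Set (Fin (3 + 1) → K))).IsPrime := vanI_isPrime U b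
    have hH : (vanI (U : Set (Fin (3 + 1) → K))).IsHomogeneous (CohB1.polyGrading 3 K) :=
      vanI_isHomogeneous U b
    have hHilb : IsHilb (vanI (U : Set (Fin (3 + 1) → K))) (Polynomial.X + Polynomial.C 1) := by
      refine ⟨0, fun m _ => ?_⟩
      rw [hq_vanI U b, Nat.multichoose_two]
      simp
    have hFU : F ∈ vanI (U : Set (Fin (3 + 1) → K)) := hUF
    have hPolU : Pol ∈ vanI (U : Set (Fin (3 + 1) → K)) := polar_mem_vanI F a U haU hFU
    have hle : 𝔠 ≤ vanI (U : Set (Fin (3 + 1) → K)) :=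
      sup_le ((Ideal.span_singleton_le_iff_mem _).mpr hFU)
        ((Ideal.span_singleton_le_iff_mem _).mpr hPolU)
    have hX0 : (Polynomial.X + Polynomial.C 1 : ℚ[X]) ≠ 0 := Polynomial.X_add_C_ne_zero 1
    have hmin := mem_minimalPrimes_of_natDegree I hIh Pcub hP (by rw [natDegree_Pcub]) Pol 2 hPolH
      hPolI (vanI (U : Set (Fin (3 + 1) → K))) hH (Polynomial.X + Polynomial.C 1) hHilb hX0
      (by rw [Polynomial.natDegree_X_add_C, natDegree_Pcub]) hle
    obtain ⟨i, hi⟩ := (hpmin _).mp hmin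
    refine ⟨i, hi.symm, ?_⟩
    exact IsHilb.unique (hQp i) (hi ▸ hHilb)
  set J : Finset (Fin r) :=
    Finset.univ.filter (fun i => ∃ U ∈ L, p i = vanI (U : Set (Fin 4 → K))) with hJ
  have hterm_nonneg : ∀ i, (0 : ℚ) ≤ ((Qp i).natDegree.factorial : ℚ) * (Qp i).leadingCoeff *
      ((lam (p i) 𝔠).toNat : ℚ) := fun i =>
    mul_nonneg (mul_nonneg (Nat.cast_nonneg _) (IsHilb.leadingCoeff_nonneg (hQp i)))
      (Nat.cast_nonneg _)
  have hterm_one : ∀ i ∈ J, (1 : ℚ) ≤ ((Qp i).natDegree.factorial : ℚ) * (Qp i).leadingCoeff *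
      ((lam (p i) 𝔠).toNat : ℚ) := by
    intro i hi
    obtain ⟨U, hU, hpi⟩ := (Finset.mem_filter.mp hi).2
    obtain ⟨i', hi', hQ⟩ := hline U hU
    have hii : i' = i := hpinj (hi'.trans hpi.symm)
    subst hii
    rw [hQ, Polynomial.natDegree_X_add_C, Polynomial.leadingCoeff_X_add_C, Nat.factorial_one,
      Nat.cast_one, one_mul, one_mul]
    have h0 := lam_ne_zero (p i') 𝔠 (hpmem i').1.2
    have ht := lam_ne_top 𝔠 h𝔠h (p i') (hpmem i')
    have hne : (lam (p i') 𝔠).toNat ≠ 0 := by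
      rw [Ne, ENat.toNat_eq_zero]
      push Not
      exact ⟨h0, ht⟩
    exact_mod_cast Nat.one_le_iff_ne_zero.mpr hne
  have hJ6 : (J.card : ℚ) ≤ 6 := by
    calc (J.card : ℚ) = ∑ i ∈ J, (1 : ℚ) := by simp
      _ ≤ ∑ i ∈ J, ((Qp i).natDegree.factorial : ℚ) * (Qp i).leadingCoeff *
          ((lam (p i) 𝔠).toNat : ℚ) := Finset.sum_le_sum hterm_one
      _ ≤ ∑ i, ((Qp i).natDegree.factorial : ℚ) * (Qp i).leadingCoeff *
          ((lam (p i) 𝔠).toNat : ℚ) :=
        Finset.sum_le_sum_of_subset_of_nonneg (Finset.subset_univ _) (fun i _ _ => hterm_nonneg i)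
      _ = 6 := by
        rw [← hbez]
        norm_num [Nat.factorial]
  have hJ6' : J.card ≤ 6 := by exact_mod_cast hJ6
  have hsub : (fun U : Submodule K (Fin 4 → K) => vanI (U : Set (Fin 4 → K))) '' L ⊆
      p '' (J : Set (Fin r)) := by
    rintro _ ⟨U, hU, rfl⟩
    obtain ⟨i, hi, _⟩ := hline U hU
    exact ⟨i, Finset.mem_coe.mpr (Finset.mem_filter.mpr ⟨Finset.mem_univ _, U, hU, hi⟩), hi⟩
  have hinj : Function.Injective
      (fun U : Submodule K (Fin 4 → K) => vanI (U : Set (Fin 4 → K))) :=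
    fun U U' h => vanI_injective h
  calc L.encard
      = ((fun U : Submodule K (Fin 4 → K) => vanI (U : Set (Fin 4 → K))) '' L).encard :=
        (hinj.encard_image L).symm
    _ ≤ (p '' (J : Set (Fin r))).encard := Set.encard_le_encard hsub
    _ ≤ (J : Set (Fin r)).encard := Set.encard_image_le p _
    _ = (J.card : ℕ∞) := Set.encard_coe_eq_coe_finsetCard J
    _ ≤ 6 := by exact_mod_cast hJ6'

end Main

end Groth.Agent.Lib.Helper6.CubLine
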