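import Mathlib
import Groth.Agent.Lib.Helper6.CubLine.CLd

set_option autoImplicit false
set_option linter.unusedSectionVars false
set_option linter.unusedVariables false
set_option linter.unusedSimpArgs false
set_option linter.style.haveILetI false
set_option maxHeartbeats 400000

/-!
# Binary forms, hyperplanes and linear algebra auxiliaries
-/

open MvPolynomial

universe u v

noncomputable section

namespace Groth.Agent.Lib.Helper6.CubLine

section Binary

variable {K : Type u} [Field K]

/-- a binary form of degree `n` is a combination of the monomials `y^i z^(n-i)` -/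
theorem eval_binary_form (n : ℕ) (q : MvPolynomial (Fin 2) K) (hq : q.IsHomogeneous n) :
    ∃ c : ℕ → K, ∀ z : Fin 2 → K,
      eval z q = ∑ i ∈ Finset.range (n + 1), c i * z 0 ^ i * z 1 ^ (n - i) := by
  have hq' : q ∈ homogeneousSubmodule (Fin 2) K n := hq
  rw [homogeneousSubmodule_eq_finsupp_supported, AddMonoidAlgebra.supported_eq_span_single] at hq'
  refine Submodule.span_induction ?_ ?_ ?_ ?_ hq'
  · rintro _ ⟨d, hd, rfl⟩
    refine ⟨fun i => if i = d 0 then 1 else 0, fun z => ?_⟩
    have hd' : d 0 + d 1 = n := by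
      have h1 : d.degree = n := hd
      rw [Finsupp.degree_eq_sum, Fin.sum_univ_two] at h1
      exact h1
    rw [Finset.sum_eq_single (d 0)]
    · beta_reduce
      rw [if_pos rfl, one_mul, show n - d 0 = d 1 by omega]
      show eval z (monomial d 1) = _
      rw [eval_monomial, one_mul, Finsupp.prod_fintype _ _ (fun i => pow_zero _), Fin.prod_univ_two]
    · intro i _ hi
      beta_reduce
      rw [if_neg hi, zero_mul, zero_mul]
    · intro h
      exfalso
      apply h
      rw [Finset.mem_range]
      omega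
  · exact ⟨fun _ => 0, fun z => by simp⟩
  · rintro p p' _ _ ⟨c, hc⟩ ⟨c', hc'⟩
    refine ⟨fun i => c i + c' i, fun z => ?_⟩
    rw [map_add, hc, hc', ← Finset.sum_add_distrib]
    apply Finset.sum_congr rfl
    intro i _
    ring
  · rintro r p _ ⟨c, hc⟩
    refine ⟨fun i => r * c i, fun z => ?_⟩
    rw [smul_eval, hc, Finset.mul_sum]
    apply Finset.sum_congr rfl
    intro i _
    ring

variable [IsAlgClosed K]

theorem factor_binary_quadratic (A B C : K) :
    ∃ α₁ β₁ α₂ β₂ : K, ∀ y z : K,
      A * y ^ 2 + B * y * z + C * z ^ 2 = (α₁ * y + β₁ * z) * (α₂ * y + β₂ * z) := by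
  by_cases hA : A = 0
  · exact ⟨0, 1, B, C, fun y z => by rw [hA]; ring⟩
  · obtain ⟨r, hr⟩ : ∃ r : K, A * r ^ 2 + B * r + C = 0 := by
      have hdeg : (Polynomial.C A * Polynomial.X ^ 2 + Polynomial.C B * Polynomial.X +
          Polynomial.C C).degree ≠ 0 := by
        rw [Polynomial.degree_quadratic hA]
        norm_num
      obtain ⟨r, hr⟩ := IsAlgClosed.exists_root _ hdeg
      refine ⟨r, ?_⟩
      simpa [Polynomial.IsRoot] using hr
    refine ⟨1, -r, A, B + A * r, fun y z => ?_⟩
    linear_combination (z ^ 2) * hr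

theorem factor_binary_cubic (A B C D : K) :
    ∃ α β : Fin 3 → K, ∀ y z : K,
      A * y ^ 3 + B * y ^ 2 * z + C * y * z ^ 2 + D * z ^ 3 = ∏ j, (α j * y + β j * z) := by
  by_cases hA : A = 0
  · obtain ⟨α₁, β₁, α₂, β₂, h⟩ := factor_binary_quadratic B C D
    refine ⟨![0, α₁, α₂], ![1, β₁, β₂], fun y z => ?_⟩
    rw [Fin.prod_univ_three]
    simp only [Matrix.cons_val_zero, Matrix.cons_val_one, Matrix.cons_val_two, Matrix.head_cons,
      Matrix.tail_cons]
    linear_combination (y ^ 3) * hA + z * h y z
  · obtain ⟨r, hr⟩ : ∃ r : K, A * r ^ 3 + B * r ^ 2 + C * r + D = 0 := by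
      have hdeg : (Polynomial.C A * Polynomial.X ^ 3 + Polynomial.C B * Polynomial.X ^ 2 +
          Polynomial.C C * Polynomial.X + Polynomial.C D).degree ≠ 0 := by
        rw [Polynomial.degree_cubic hA]
        norm_num
      obtain ⟨r, hr⟩ := IsAlgClosed.exists_root _ hdeg
      refine ⟨r, ?_⟩
      simpa [Polynomial.IsRoot] using hr
    obtain ⟨α₁, β₁, α₂, β₂, h⟩ := factor_binary_quadratic A (B + A * r) (C + B * r + A * r ^ 2)
    refine ⟨![1, α₁, α₂], ![-r, β₁, β₂], fun y z => ?_⟩
    rw [Fin.prod_univ_three]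
    simp only [Matrix.cons_val_zero, Matrix.cons_val_one, Matrix.cons_val_two, Matrix.head_cons,
      Matrix.tail_cons]
    linear_combination (y - r * z) * h y z + (z ^ 3) * hr

end Binary

section LinAlg

variable {K : Type u} [Field K] {V : Type v} [AddCommGroup V] [Module K V] [FiniteDimensional K V]

theorem finrank_inf_ker (H : Submodule K V) (lam : V →ₗ[K] K) (hne : ∃ x ∈ H, lam x ≠ 0) :
    Module.finrank K ↥(H ⊓ LinearMap.ker lam) + 1 = Module.finrank K H := by
  obtain ⟨x, hxH, hx⟩ := hne
  let f : H →ₗ[K] K := lam ∘ₗ H.subtype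
  have hsurj : Function.Surjective f := by
    intro c
    refine ⟨(c / lam x) • ⟨x, hxH⟩, ?_⟩
    show lam ((c / lam x) • x) = c
    rw [map_smul, smul_eq_mul, div_mul_cancel₀ _ hx]
  have h1 := LinearMap.finrank_range_add_finrank_ker f
  rw [LinearMap.range_eq_top.mpr hsurj, finrank_top, Module.finrank_self] at h1
  have hker : LinearMap.ker f = (H ⊓ LinearMap.ker lam).comap H.subtype := by
    ext y
    rw [LinearMap.mem_ker, Submodule.mem_comap, Submodule.mem_inf, LinearMap.mem_ker]
    constructor
    · intro h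
      exact ⟨y.2, h⟩
    · intro h
      exact h.2
  rw [hker, (Submodule.comapSubtypeEquivOfLe
    (inf_le_left : H ⊓ LinearMap.ker lam ≤ H)).finrank_eq] at h1
  omega

end LinAlg

section Hyper

variable {K : Type u} [Field K] {σ : Type v} [Fintype σ] [DecidableEq σ]

/-- the linear functional `x ↦ Σ c_i x_i` -/
def dotF (c : σ → K) : (σ → K) →ₗ[K] K := ∑ i, c i • LinearMap.proj i

theorem dotF_apply (c x : σ → K) : dotF c x = ∑ i, c i * x i := by
  unfold dotF
  rw [LinearMap.sum_apply]
  apply Finset.sum_congr rfl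
  intro i _
  rw [LinearMap.smul_apply, LinearMap.proj_apply, smul_eq_mul]

theorem eval_sum_C_mul_X (c x : σ → K) : eval x (∑ i, C (c i) * X i) = dotF c x := by
  rw [dotF_apply, map_sum]
  apply Finset.sum_congr rfl
  intro i _
  rw [map_mul, eval_C, eval_X]

theorem dotF_single (c : σ → K) (i₀ : σ) : dotF c (Pi.single i₀ 1) = c i₀ := by
  rw [dotF_apply, Finset.sum_eq_single i₀]
  · rw [Pi.single_eq_same, mul_one]
  · intro j _ hj
    rw [Pi.single_eq_of_ne hj, mul_zero]
  · intro h
    exact absurd (Finset.mem_univ _) h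

theorem eval_aeval_mv {τ : Type*} (φ : σ → MvPolynomial τ K) (f : MvPolynomial σ K)
    (z : τ → K) : eval z (aeval φ f) = eval (fun i => eval z (φ i)) f := by
  induction f using MvPolynomial.induction_on with
  | C c => simp
  | add p q hp hq => rw [map_add, map_add, map_add, hp, hq]
  | mul_X p i hp => rw [map_mul, map_mul, map_mul, hp, aeval_X, eval_X]

variable [Infinite K]

/-- a polynomial vanishing on a hyperplane is divisible by its equation -/
theorem mem_span_of_vanish (c : σ → K) (hc : c ≠ 0) (f : MvPolynomial σ K)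
    (hf : ∀ x, dotF c x = 0 → eval x f = 0) :
    f ∈ Ideal.span {∑ i, C (c i) * X i} := by
  obtain ⟨i₀, hi₀⟩ : ∃ i, c i ≠ 0 := by
    by_contra h
    push Not at h
    exact hc (funext h)
  set ℓ : MvPolynomial σ K := ∑ i, C (c i) * X i with hℓ
  set φ : σ → MvPolynomial σ K := fun i => if i = i₀ then X i₀ - C (c i₀)⁻¹ * ℓ else X i with hφ
  have h1 : ∀ g : MvPolynomial σ K, g - aeval φ g ∈ Ideal.span {ℓ} := by
    intro g
    induction g using MvPolynomial.induction_on with
    | C r =>
      have : aeval φ (C r : MvPolynomial σ K) = C r := by simp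
      rw [this, sub_self]
      exact Ideal.zero_mem _
    | add p q hp hq =>
      rw [map_add, add_sub_add_comm]
      exact Ideal.add_mem _ hp hq
    | mul_X p j hp =>
      rw [map_mul, aeval_X]
      have hX : X j - φ j ∈ Ideal.span {ℓ} := by
        simp only [hφ]
        split_ifs with h
        · subst h
          rw [sub_sub_cancel]
          exact Ideal.mul_mem_left _ _ (Ideal.mem_span_singleton_self ℓ)
        · rw [sub_self]
          exact Ideal.zero_mem _
      have : p * X j - aeval φ p * φ j = (p - aeval φ p) * X j + aeval φ p * (X j - φ j) := by ring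
      rw [this]
      exact Ideal.add_mem _ (Ideal.mul_mem_right _ _ hp) (Ideal.mul_mem_left _ _ hX)
  have h2 : ∀ x : σ → K, dotF c (fun i => eval x (φ i)) = 0 := by
    intro x
    have hfun : (fun i => eval x (φ i)) = x - ((c i₀)⁻¹ * dotF c x) • Pi.single i₀ 1 := by
      funext i
      simp only [hφ]
      by_cases h : i = i₀
      · subst h
        rw [if_pos rfl, map_sub, map_mul, eval_X, eval_C, hℓ, eval_sum_C_mul_X, Pi.sub_apply,
          Pi.smul_apply, Pi.single_eq_same, smul_eq_mul, mul_one]
      · rw [if_neg h, eval_X, Pi.sub_apply, Pi.smul_apply, Pi.single_eq_of_ne h, smul_zero, sub_zero]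
    rw [hfun, map_sub, map_smul, dotF_single, smul_eq_mul]
    field_simp
    ring
  have h3 : aeval φ f = 0 := by
    apply MvPolynomial.funext
    intro x
    rw [eval_aeval_mv, map_zero]
    exact hf _ (h2 x)
  have h4 := h1 f
  rwa [h3, sub_zero] at h4

end Hyper

end Groth.Agent.Lib.Helper6.CubLine
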