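import Mathlib
import Groth.Agent.Lib.Helper6.CubLine.CLe

set_option autoImplicit false
set_option linter.unusedSectionVars false
set_option linter.unusedVariables false
set_option linter.unusedSimpArgs false
set_option linter.style.haveILetI false
set_option maxHeartbeats 400000

/-!
# Expansion of a cubic form along a line, first polar and tangent hyperplane
-/

open MvPolynomial

universe u v

noncomputable section

namespace Groth.Agent.Lib.Helper6.CubLine

open Groth.Agent.Lib.Helper6.ProjDeg

variable {K : Type u} [Field K] {σ : Type v} [Fintype σ] [DecidableEq σ]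

/-- the first polar of `F` with respect to `a` -/
def polar (F : MvPolynomial σ K) (a : σ → K) : MvPolynomial σ K := ∑ i, a i • pderiv i F

/-- the gradient of `F` at `a` -/
def grad (F : MvPolynomial σ K) (a : σ → K) : σ → K := fun i => eval a (pderiv i F)

theorem eval_polar (F : MvPolynomial σ K) (a x : σ → K) :
    eval x (polar F a) = dotF (grad F x) a := by
  unfold polar grad
  rw [dotF_apply, map_sum]
  apply Finset.sum_congr rfl
  intro i _
  rw [smul_eval, mul_comm]

/-- the derivative of `s ↦ F(x + s a)` -/
theorem eval_derivative_line (F : MvPolynomial σ K) (x a : σ → K) (s : K) :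
    Polynomial.eval s (Polynomial.derivative
      (aeval (fun i => Polynomial.C (x i) + Polynomial.C (a i) * Polynomial.X) F)) =
      eval (x + s • a) (polar F a) := by
  have hφs : (fun i => Polynomial.eval s
      ((fun i => Polynomial.C (x i) + Polynomial.C (a i) * Polynomial.X) i)) = x + s • a := by
    funext i
    show Polynomial.eval s (Polynomial.C (x i) + Polynomial.C (a i) * Polynomial.X) =
      x i + s * a i
    rw [Polynomial.eval_add, Polynomial.eval_C, Polynomial.eval_mul, Polynomial.eval_C,
      Polynomial.eval_X, mul_comm]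
  rw [derivative_aeval, Polynomial.eval_finsetSum, eval_polar, dotF_apply]
  apply Finset.sum_congr rfl
  intro i _
  have hd : Polynomial.derivative (Polynomial.C (x i) + Polynomial.C (a i) * Polynomial.X) =
      Polynomial.C (a i) := by
    rw [Polynomial.derivative_add, Polynomial.derivative_C, zero_add, Polynomial.derivative_C_mul,
      Polynomial.derivative_X, mul_one]
  rw [Polynomial.eval_mul, eval_aeval_poly, hφs, hd, Polynomial.eval_C]
  rfl

theorem eval_line (F : MvPolynomial σ K) (x a : σ → K) (s : K) :
    Polynomial.eval s (aeval (fun i => Polynomial.C (x i) + Polynomial.C (a i) * Polynomial.X) F) =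
      eval (x + s • a) F := by
  rw [eval_aeval_poly]
  have hφs : (fun i => Polynomial.eval s
      ((fun i => Polynomial.C (x i) + Polynomial.C (a i) * Polynomial.X) i)) = x + s • a := by
    funext i
    show Polynomial.eval s (Polynomial.C (x i) + Polynomial.C (a i) * Polynomial.X) =
      x i + s * a i
    rw [Polynomial.eval_add, Polynomial.eval_C, Polynomial.eval_mul, Polynomial.eval_C,
      Polynomial.eval_X, mul_comm]
  rw [hφs]

variable [Infinite K]

theorem eval_derivative_of_cubic (g : Polynomial K) (k0 k1 k2 k3 : K)
    (h : ∀ s, Polynomial.eval s g = k0 + k1 * s + k2 * s ^ 2 + k3 * s ^ 3) (s : K) :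
    Polynomial.eval s (Polynomial.derivative g) = k1 + 2 * k2 * s + 3 * k3 * s ^ 2 := by
  have hg : g = Polynomial.C k0 + Polynomial.C k1 * Polynomial.X +
      Polynomial.C k2 * Polynomial.X ^ 2 + Polynomial.C k3 * Polynomial.X ^ 3 := by
    apply Polynomial.funext
    intro r
    rw [h r]
    simp
  rw [hg]
  simp only [Polynomial.derivative_add, Polynomial.derivative_C, Polynomial.derivative_mul,
    Polynomial.derivative_X, Polynomial.derivative_X_pow, Polynomial.eval_add, Polynomial.eval_mul,
    Polynomial.eval_C, Polynomial.eval_X, Polynomial.eval_pow, Polynomial.eval_zero,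
    Polynomial.eval_one, Polynomial.eval_natCast]
  push_cast
  ring

/-- the binary cubic `F(u x + v a)` -/
theorem exists_cubic_expansion (F : MvPolynomial σ K) (hF : F.IsHomogeneous 3) (x a : σ → K) :
    ∃ c : ℕ → K, ∀ u v : K, eval (u • x + v • a) F =
      c 0 * v ^ 3 + c 1 * u * v ^ 2 + c 2 * u ^ 2 * v + c 3 * u ^ 3 := by
  set φ : σ → MvPolynomial (Fin 2) K := fun i => C (x i) * X 0 + C (a i) * X 1 with hφ
  have hφH : ∀ i, (φ i).IsHomogeneous 1 := fun i =>
    ((isHomogeneous_X K (0 : Fin 2)).C_mul _).add ((isHomogeneous_X K (1 : Fin 2)).C_mul _)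
  have hG : (aeval φ F).IsHomogeneous 3 := by
    have := hF.aeval φ hφH
    rwa [one_mul] at this
  obtain ⟨c, hc⟩ := eval_binary_form 3 (aeval φ F) hG
  refine ⟨c, fun u v => ?_⟩
  have h1 := hc ![u, v]
  rw [eval_aeval_mv] at h1
  have h2 : (fun i => eval ![u, v] (φ i)) = u • x + v • a := by
    funext i
    simp only [hφ, map_add, map_mul, eval_C, eval_X, Matrix.cons_val_zero, Matrix.cons_val_one,
      Matrix.head_cons, Pi.add_apply, Pi.smul_apply, smul_eq_mul]
    ring
  rw [h2] at h1
  rw [h1]
  simp only [Finset.sum_range_succ, Finset.sum_range_zero, Matrix.cons_val_zero,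
    Matrix.cons_val_one, Matrix.head_cons]
  norm_num

/-- expansion of a cubic form and its polar along the line through `x` in the direction `a` -/
theorem polar_expansion (F : MvPolynomial σ K) (hF : F.IsHomogeneous 3) (x a : σ → K) (s : K) :
    eval (x + s • a) F =
        eval x F + eval x (polar F a) * s + dotF (grad F a) x * s ^ 2 + eval a F * s ^ 3 ∧
      eval (x + s • a) (polar F a) =
        eval x (polar F a) + 2 * dotF (grad F a) x * s + 3 * eval a F * s ^ 2 := by
  obtain ⟨c, hc⟩ := exists_cubic_expansion F hF x a
  have hc0 : c 0 = eval a F := by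
    have := hc 0 1
    simp at this
    exact this.symm
  have hc3 : c 3 = eval x F := by
    have := hc 1 0
    simp at this
    exact this.symm
  have hg : ∀ r : K, Polynomial.eval r
      (aeval (fun i => Polynomial.C (x i) + Polynomial.C (a i) * Polynomial.X) F) =
      c 3 + c 2 * r + c 1 * r ^ 2 + c 0 * r ^ 3 := by
    intro r
    rw [eval_line]
    have := hc 1 r
    rw [one_smul] at this
    rw [this]
    ring
  have hh : ∀ r : K, Polynomial.eval r
      (aeval (fun i => Polynomial.C (a i) + Polynomial.C (x i) * Polynomial.X) F) =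
      c 0 + c 1 * r + c 2 * r ^ 2 + c 3 * r ^ 3 := by
    intro r
    rw [eval_line]
    have := hc r 1
    rw [one_smul, add_comm] at this
    rw [this]
    ring
  have hpol : ∀ r : K, eval (x + r • a) (polar F a) = c 2 + 2 * c 1 * r + 3 * c 0 * r ^ 2 := by
    intro r
    rw [← eval_derivative_line]
    exact eval_derivative_of_cubic _ _ _ _ _ hg r
  have hc2 : c 2 = eval x (polar F a) := by
    have := hpol 0
    simp at this
    exact this.symm
  have hc1 : c 1 = dotF (grad F a) x := by
    have h1 := eval_derivative_of_cubic _ _ _ _ _ hh 0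
    rw [eval_derivative_line, zero_smul, add_zero, eval_polar] at h1
    simp at h1
    exact h1.symm
  refine ⟨?_, ?_⟩
  · have := hc 1 s
    rw [one_smul] at this
    rw [this, hc0, hc1, hc2, hc3]
    ring
  · rw [hpol s, hc0, hc1, hc2]

end Groth.Agent.Lib.Helper6.CubLine
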