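import Mathlib
import Groth.Agent.Lib.Helper6.CubLine.CLf

set_option autoImplicit false
set_option linter.unusedSectionVars false
set_option linter.unusedVariables false
set_option linter.unusedSimpArgs false
set_option linter.style.haveILetI false
set_option maxHeartbeats 800000

/-!
# The first polar meets the tangent plane of a cubic surface in two lines
-/

open MvPolynomial

universe u v

noncomputable section

namespace Groth.Agent.Lib.Helper6.CubLine

open Groth.Agent.Lib.Helper6.ProjDeg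

section Aux

variable {K : Type u} [Field K] {σ : Type v} [Fintype σ] [DecidableEq σ]

theorem exists_coord {d : ℕ} (U : Submodule K (σ → K)) (b : Module.Basis (Fin d) K U) :
    ∃ κ : (σ → K) →ₗ[K] (Fin d → K), ∀ z, κ (param U b z) = z := by
  let P : (Fin d → K) →ₗ[K] (σ → K) :=
    U.subtype ∘ₗ b.equivFun.symm.toLinearMap
  have hP : ∀ z, P z = param U b z := by
    intro z
    show ((b.equivFun.symm z : U) : σ → K) = param U b z
    rw [Module.Basis.equivFun_symm_apply, Submodule.coe_sum]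
    simp only [Submodule.coe_smul]
    rfl
  have hker : LinearMap.ker P = ⊥ := by
    rw [LinearMap.ker_eq_bot]
    exact (Submodule.injective_subtype U).comp b.equivFun.symm.injective
  obtain ⟨g, hg⟩ := LinearMap.exists_leftInverse_of_injective P hker
  refine ⟨g, fun z => ?_⟩
  rw [← hP]
  have := LinearMap.congr_fun hg z
  simpa using this

theorem linForm_isHomogeneous (ℓ : (σ → K) →ₗ[K] K) : (linForm ℓ).IsHomogeneous 1 :=
  IsHomogeneous.sum _ _ _ fun i _ => (isHomogeneous_X K i).C_mul _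

theorem polar_isHomogeneous (F : MvPolynomial σ K) (hF : F.IsHomogeneous 3) (a : σ → K) :
    (polar F a).IsHomogeneous 2 := by
  unfold polar
  apply IsHomogeneous.sum
  intro i _
  have h1 : (pderiv i F).IsHomogeneous 2 := hF.pderiv
  exact (homogeneousSubmodule σ K 2).smul_mem (a i) h1

theorem dotF_grad_self (F : MvPolynomial σ K) (hF : F.IsHomogeneous 3) (a : σ → K) :
    dotF (grad F a) a = 3 * eval a F := by
  have h := congrArg (eval a) hF.sum_X_mul_pderiv
  rw [map_sum, map_nsmul] at h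
  rw [dotF_apply]
  unfold grad
  have h2 : ∑ i, eval a (X i * pderiv i F) = ∑ i, eval a (pderiv i F) * a i := by
    apply Finset.sum_congr rfl
    intro i _
    rw [map_mul, eval_X, mul_comm]
  rw [← h2, h]
  simp

end Aux

section Main

variable (K : Type u) [Field K] [IsAlgClosed K]

theorem polar_inter_tangent (F : MvPolynomial (Fin 4) K) (hF : F.IsHomogeneous 3)
    (a : Fin 4 → K) (ha : a ≠ 0) (hFa : eval a F = 0) (hsm : grad F a ≠ 0)
    (hT : ¬ ∃ L₁ L₂ L₃ : MvPolynomial (Fin 4) K, L₁.IsHomogeneous 1 ∧ L₂.IsHomogeneous 1 ∧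
      L₃.IsHomogeneous 1 ∧ F - L₁ * L₂ * L₃ ∈ Ideal.span {∑ i, C (grad F a i) * X i})
    (H : Submodule K (Fin 4 → K)) (hH : ∀ x, x ∈ H ↔ dotF (grad F a) x = 0) :
    ∃ U₁ U₂ : Submodule K (Fin 4 → K), Module.finrank K ↥U₁ = 2 ∧ Module.finrank K ↥U₂ = 2 ∧
      a ∈ U₁ ∧ a ∈ U₂ ∧ U₁ ≤ H ∧ U₂ ≤ H ∧
      {x : Fin 4 → K | x ∈ H ∧ eval x (polar F a) = 0} =
        (U₁ : Set (Fin 4 → K)) ∪ (U₂ : Set (Fin 4 → K)) := by
  classical
  haveI : Infinite K := inferInstance
  -- `a ∈ H`
  have haH : a ∈ H := by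
    rw [hH, dotF_grad_self F hF, hFa, mul_zero]
  -- `dim H = 3`
  have hH3 : Module.finrank K H = 3 := by
    obtain ⟨i₀, hi₀⟩ : ∃ i, grad F a i ≠ 0 := by
      by_contra h
      push Not at h
      exact hsm (funext h)
    have h1 := finrank_inf_ker (⊤ : Submodule K (Fin 4 → K)) (dotF (grad F a))
      ⟨Pi.single i₀ 1, trivial, by rw [dotF_single]; exact hi₀⟩
    have h2 : (⊤ : Submodule K (Fin 4 → K)) ⊓ LinearMap.ker (dotF (grad F a)) = H := by
      ext x
      rw [Submodule.mem_inf, LinearMap.mem_ker, hH]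
      exact ⟨fun h => h.2, fun h => ⟨trivial, h⟩⟩
    rw [h2, finrank_top, Module.finrank_fin_fun] at h1
    omega
  -- the projection along `a`
  obtain ⟨f, hfa, -⟩ := Submodule.exists_le_ker_of_notMem (p := (⊥ : Submodule K (Fin 4 → K)))
    (v := a) (by rw [Submodule.mem_bot]; exact ha)
  set σf : (Fin 4 → K) →ₗ[K] K := (f a)⁻¹ • f with hσf
  have hσa : σf a = 1 := by
    rw [hσf, LinearMap.smul_apply, smul_eq_mul, inv_mul_cancel₀ hfa]
  set π : (Fin 4 → K) →ₗ[K] (Fin 4 → K) := LinearMap.id - σf.smulRight a with hπ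
  have hπx : ∀ x, π x = x - σf x • a := by
    intro x
    rw [hπ, LinearMap.sub_apply, LinearMap.id_apply, LinearMap.smulRight_apply]
  have hπa : π a = 0 := by
    rw [hπx, hσa, one_smul, sub_self]
  have hdecomp : ∀ x, x = π x + σf x • a := by
    intro x
    rw [hπx, sub_add_cancel]
  set W : Submodule K (Fin 4 → K) := H ⊓ LinearMap.ker σf with hW
  have hW2 : Module.finrank K W = 2 := by
    have h1 : Module.finrank K W + 1 = Module.finrank K H :=
      finrank_inf_ker H σf ⟨a, haH, by rw [hσa]; exact one_ne_zero⟩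
    rw [hH3] at h1
    omega
  have hπW : ∀ x ∈ H, π x ∈ W := by
    intro x hx
    rw [hW, Submodule.mem_inf, LinearMap.mem_ker, hπx]
    refine ⟨H.sub_mem hx (H.smul_mem _ haH), ?_⟩
    rw [map_sub, map_smul, hσa, smul_eq_mul, mul_one, sub_self]
  have hWH : W ≤ H := inf_le_left
  let w := Module.finBasisOfFinrankEq K W hW2
  obtain ⟨κ, hκ⟩ := exists_coord W w
  have hparam : ∀ x ∈ H, π x = param W w (κ (π x)) := by
    intro x hx
    obtain ⟨z, hz⟩ := exists_param W w (hπW x hx)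
    rw [hz, hκ]
  -- vertex properties
  have hvertP : ∀ y ∈ H, ∀ s : K, eval (y + s • a) (polar F a) = eval y (polar F a) := by
    intro y hy s
    rw [(polar_expansion F hF y a s).2, (hH y).mp hy, hFa]
    ring
  have hvertF : ∀ y ∈ H, ∀ s : K, eval (y + s • a) F = eval y F + eval y (polar F a) * s := by
    intro y hy s
    rw [(polar_expansion F hF y a s).1, (hH y).mp hy, hFa]
    ring
  -- the polar is not identically zero on `H`
  have hnz : ∃ x₀ ∈ H, eval x₀ (polar F a) ≠ 0 := by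
    by_contra hcon
    push Not at hcon
    apply hT
    have hqH : (lineMap W w F).IsHomogeneous 3 := lineMap_isHomogeneous W w hF
    obtain ⟨c, hc⟩ := eval_binary_form 3 (lineMap W w F) hqH
    obtain ⟨α, β, hfac⟩ := factor_binary_cubic (c 3) (c 2) (c 1) (c 0)
    let μ : Fin 3 → ((Fin 4 → K) →ₗ[K] K) := fun j =>
      (α j • LinearMap.proj 0 + β j • LinearMap.proj 1) ∘ₗ κ ∘ₗ π
    have hμ : ∀ j x, μ j x = α j * κ (π x) 0 + β j * κ (π x) 1 := by
      intro j x
      rfl
    have hFx : ∀ x ∈ H, eval x F = μ 0 x * μ 1 x * μ 2 x := by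
      intro x hx
      have h1 : eval x F = eval (π x) F := by
        conv_lhs => rw [hdecomp x]
        rw [hvertF (π x) (hWH (hπW x hx)), hcon (π x) (hWH (hπW x hx)), zero_mul, add_zero]
      rw [h1, hparam x hx, ← eval_lineMap, hc]
      have h2 := hfac (κ (π x) 0) (κ (π x) 1)
      rw [Fin.prod_univ_three] at h2
      rw [hμ, hμ, hμ, ← h2]
      simp only [Finset.sum_range_succ, Finset.sum_range_zero]
      norm_num
      ring
    refine ⟨linForm (μ 0), linForm (μ 1), linForm (μ 2), linForm_isHomogeneous _,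
      linForm_isHomogeneous _, linForm_isHomogeneous _, ?_⟩
    apply mem_span_of_vanish (grad F a) hsm
    intro x hx
    rw [map_sub, map_mul, map_mul, eval_linForm, eval_linForm, eval_linForm,
      hFx x ((hH x).mpr hx), sub_self]
  obtain ⟨x₀, hx₀H, hx₀⟩ := hnz
  -- factor the restriction of the polar to `W`
  have hqH : (lineMap W w (polar F a)).IsHomogeneous 2 :=
    lineMap_isHomogeneous W w (polar_isHomogeneous F hF a)
  obtain ⟨c, hc⟩ := eval_binary_form 2 (lineMap W w (polar F a)) hqH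
  obtain ⟨α₁, β₁, α₂, β₂, hfac⟩ := factor_binary_quadratic (c 2) (c 1) (c 0)
  set l₁ : (Fin 4 → K) →ₗ[K] K :=
    (α₁ • LinearMap.proj 0 + β₁ • LinearMap.proj 1) ∘ₗ κ ∘ₗ π with hl₁
  set l₂ : (Fin 4 → K) →ₗ[K] K :=
    (α₂ • LinearMap.proj 0 + β₂ • LinearMap.proj 1) ∘ₗ κ ∘ₗ π with hl₂
  have hl₁x : ∀ x, l₁ x = α₁ * κ (π x) 0 + β₁ * κ (π x) 1 := fun x => rfl
  have hl₂x : ∀ x, l₂ x = α₂ * κ (π x) 0 + β₂ * κ (π x) 1 := fun x => rfl
  have hPx : ∀ x ∈ H, eval x (polar F a) = l₁ x * l₂ x := by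
    intro x hx
    have h1 : eval x (polar F a) = eval (π x) (polar F a) := by
      conv_lhs => rw [hdecomp x]
      rw [hvertP (π x) (hWH (hπW x hx))]
    rw [h1, hparam x hx, ← eval_lineMap, hc]
    have h2 := hfac (κ (π x) 0) (κ (π x) 1)
    rw [hl₁x, hl₂x, ← h2]
    simp only [Finset.sum_range_succ, Finset.sum_range_zero]
    norm_num
    ring
  have hl₁a : l₁ a = 0 := by
    rw [hl₁x, hπa, map_zero]
    simp
  have hl₂a : l₂ a = 0 := by
    rw [hl₂x, hπa, map_zero]
    simp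
  have hx₀' := hPx x₀ hx₀H
  have hl₁0 : l₁ x₀ ≠ 0 := by
    intro h
    rw [h, zero_mul] at hx₀'
    exact hx₀ hx₀'
  have hl₂0 : l₂ x₀ ≠ 0 := by
    intro h
    rw [h, mul_zero] at hx₀'
    exact hx₀ hx₀'
  refine ⟨H ⊓ LinearMap.ker l₁, H ⊓ LinearMap.ker l₂, ?_, ?_, ?_, ?_, inf_le_left, inf_le_left, ?_⟩
  · have h1 := finrank_inf_ker H l₁ ⟨x₀, hx₀H, hl₁0⟩
    rw [hH3] at h1
    omega
  · have h1 := finrank_inf_ker H l₂ ⟨x₀, hx₀H, hl₂0⟩
    rw [hH3] at h1
    omega
  · exact ⟨haH, hl₁a⟩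
  · exact ⟨haH, hl₂a⟩
  · ext x
    simp only [Set.mem_ofPred_eq, Set.mem_union, SetLike.mem_coe, Submodule.mem_inf,
      LinearMap.mem_ker]
    constructor
    · rintro ⟨hx, hPx0⟩
      rw [hPx x hx, mul_eq_zero] at hPx0
      rcases hPx0 with h | h
      · exact Or.inl ⟨hx, h⟩
      · exact Or.inr ⟨hx, h⟩
    · rintro (⟨hx, h⟩ | ⟨hx, h⟩)
      · exact ⟨hx, by rw [hPx x hx, h, zero_mul]⟩
      · exact ⟨hx, by rw [hPx x hx, h, mul_zero]⟩

/-- lines through `a` on the surface lie in the tangent plane and on the polar -/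
theorem line_le_tangent (F : MvPolynomial (Fin 4) K) (a : Fin 4 → K)
    (U : Submodule K (Fin 4 → K)) (haU : a ∈ U) (hUF : ∀ u ∈ U, eval u F = 0) :
    (∀ u ∈ U, dotF (grad F a) u = 0) ∧ ∀ u ∈ U, eval u (polar F a) = 0 := by
  haveI : Infinite K := inferInstance
  have hF : F ∈ vanI (U : Set (Fin 4 → K)) := hUF
  refine ⟨fun u hu => ?_, fun u hu => ?_⟩
  · have h1 := polar_mem_vanI F u U hu hF a haU
    have h2 := eval_polar F u a
    unfold polar at h2
    rw [h1] at h2
    exact h2.symm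
  · exact polar_mem_vanI F a U haU hF u hu

end Main

end Groth.Agent.Lib.Helper6.CubLine
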